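import Cfsg.Agent.Lib.Enum.Tree
import Cfsg.Agent.Lib.HeldOut.Data

/-! Invariants of pairs of points for the Held group, as programs. -/

set_option autoImplicit false

namespace Cfsg.Agent.HeldOut

open Enum (field allRange)

/-- The image of a point under a generator. -/
def gimg : ℕ → ℕ → ℕ
  | 0, i => field 12 gtab0 i
  | 1, i => field 12 gtab1 i
  | 2, i => field 12 gtab2 i
  | 3, i => field 12 gtab3 i
  | 4, i => field 12 gtab4 i
  | 5, i => field 12 gtab5 i
  | 6, i => field 12 gtab6 i
  | _, i => i

/-- A word in the generators, first letter first. -/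
def gword : List ℕ → ℕ → ℕ
  | [], i => i
  | x :: w, i => gword w (gimg x i)

/-- The six tables: `x`, `x⁻¹`, `y`, `y⁻¹`, `t`, `s`. -/
def tabF : ℕ → ℕ → ℕ
  | 0, i => field 12 tab0 i
  | 1, i => field 12 tab1 i
  | 2, i => field 12 tab2 i
  | 3, i => field 12 tab3 i
  | 4, i => field 12 tab4 i
  | 5, i => field 12 tab5 i
  | _, i => i

/-- The tables of the images of the generators. -/
def itabF : ℕ → ℕ → ℕ
  | 0, i => field 12 itab0 i
  | 1, i => field 12 itab1 i
  | 2, i => field 12 itab2 i
  | 3, i => field 12 itab3 i
  | 4, i => field 12 itab4 i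
  | 5, i => field 12 itab5 i
  | 6, i => field 12 itab6 i
  | _, i => i

/-- A word in tables, first letter first. -/
def appT (T : ℕ → ℕ → ℕ) : List ℕ → ℕ → ℕ
  | [], i => i
  | k :: w, i => appT T w (T k i)

/-- A word in the six elements. -/
def app (w : List ℕ) (i : ℕ) : ℕ := appT tabF w i

/-- Carry `p` to the first point, and `q` along. -/
def down : ℕ → ℕ → ℕ → ℕ
  | 0, _, q => q
  | n + 1, p, q =>
    bif Nat.beq p 0 then q
    else
      let x := field 4 letData p
      down n (gimg x p) (gimg x q)

/-- The invariant of a pair of points. -/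
def orb (p q : ℕ) : ℕ := field 3 labData (down 20 p q)

/-- Equal invariants against two lists of points. -/
def sameP : List ℕ → ℕ → List ℕ → ℕ → Bool
  | a :: Q, f, b :: P, e => Nat.beq (orb a f) (orb b e) && sameP Q f P e
  | _, _, _, _ => true

/-- Equal invariants against pairs of words. -/
def sameW : List (List ℕ × List ℕ) → ℕ → ℕ → Bool
  | [], _, _ => true
  | w :: L, f, e => Nat.beq (orb f (app w.1 f)) (orb e (app w.2 e)) && sameW L f e

/-- The number of the invariants against points. -/
def keyP : List ℕ → ℕ → ℕ → ℕ
  | a :: P, f, acc => keyP P f (acc * 8 + orb a f)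
  | [], _, acc => acc

/-- The number of the invariants against words. -/
def keyW : List (List ℕ) → ℕ → ℕ → ℕ
  | w :: W, f, acc => keyW W f (acc * 8 + orb f (app w f))
  | [], _, acc => acc

/-- The number of all invariants of a point. -/
def key (P : List ℕ) (W : List (List ℕ)) (f acc : ℕ) : ℕ := keyW W f (keyP P f acc)

/-- Membership. -/
def memB (f : ℕ) (l : List ℕ) : Bool := l.any (Nat.beq f)

/-- All points with the invariants of `e` are listed. -/
def cover (Q P : List ℕ) (L : List (List ℕ × List ℕ)) (e : ℕ) (cand : List ℕ) : Bool :=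
  allRange (fun f => memB f cand || !(sameP Q f P e && sameW L f e)) 64 0 2058

/-- The invariants separate the points. -/
def sortOk (P : List ℕ) (W : List (List ℕ)) (ord pos ks : ℕ) (wid f : ℕ) : Bool :=
  Nat.blt (field 12 pos f) 2058 && Nat.beq (field 12 ord (field 12 pos f)) f &&
    Nat.beq (field wid ks (field 12 pos f)) (key P W f 0) &&
    (Nat.beq f 0 || Nat.blt (field wid ks (f - 1)) (field wid ks f))

/-- Six consecutive ranges make up the whole range. -/
theorem range_six {p : ℕ → Bool} (h0 : allRange p 64 0 343 = true) (h1 : allRange p 64 343 343 = true)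
    (h2 : allRange p 64 686 343 = true) (h3 : allRange p 64 1029 343 = true)
    (h4 : allRange p 64 1372 343 = true) (h5 : allRange p 64 1715 343 = true) :
    ∀ i < 2058, p i = true := by
  intro i hi
  rcases Nat.lt_or_ge i 343 with a | a
  · exact Enum.allRange_spec 64 0 343 h0 i (Nat.zero_le _) (by omega)
  rcases Nat.lt_or_ge i 686 with b | b
  · exact Enum.allRange_spec 64 343 343 h1 i a (by omega)
  rcases Nat.lt_or_ge i 1029 with c | c
  · exact Enum.allRange_spec 64 686 343 h2 i b (by omega)
  rcases Nat.lt_or_ge i 1372 with e | e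
  · exact Enum.allRange_spec 64 1029 343 h3 i c (by omega)
  rcases Nat.lt_or_ge i 1715 with f | f
  · exact Enum.allRange_spec 64 1372 343 h4 i e (by omega)
  · exact Enum.allRange_spec 64 1715 343 h5 i f (by omega)

/-- Diagonal pairs. -/
def diag (W : List (List ℕ)) : List (List ℕ × List ℕ) := W.map fun w => (w, w)

/-- Powers of `x`. -/
def xw (k : ℕ) : List ℕ := List.replicate k 0

/-- Powers of `y`. -/
def yw (k : ℕ) : List ℕ := List.replicate k 2

/-- The sixteen elements commuting with `y`. -/
def g16 (n : ℕ) : List ℕ := yw (n / 2) ++ List.replicate (n % 2) 4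

/-- Invariant words for `x`. -/
def wordsX : List (List ℕ) := (List.range numX).map fun k => xw (k + 1)

/-- Pairs of invariant words for `x` and its cube. -/
def pairsO : List (List ℕ × List ℕ) :=
  (List.range numO).map fun k => (xw (3 * (k + 1) % 17), xw (k + 1))

/-- Invariant words for `y`. -/
def wordsY : List (List ℕ) := (List.range numY).map fun k => yw (k + 1)

/-- A concatenation of the words centralised by `s`. -/
def flatU : List ℕ → List ℕ
  | [] => []
  | i :: w => uWords.getD i [] ++ flatU w

/-- Invariant words for `s`. -/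
def wordsS : List (List ℕ) := sigS.map flatU

/-- The points of the first stage for `s`. -/
def ptsS : List ℕ := reachS ++ singS

/-- The orbit under `y`. -/
def orbY (f : ℕ) : List ℕ := (List.range 8).map fun k => app (yw k) f

/-- A word carrying a generator word to the images. -/
def imWord (w : List ℕ) : List ℕ := (w.reverse.map fun x => iWords.getD x []).flatten

end Cfsg.Agent.HeldOut
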