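import Cfsg.Agent.Lib.Enum.HeATable
import Cfsg.Agent.Lib.Enum.HeASuborbits
import Cfsg.Agent.Lib.HeldOut.Defs

/-! Basic checks of the data for the Held group. -/

set_option autoImplicit false
set_option maxRecDepth 10000
set_option Elab.async false

namespace Cfsg.Agent.HeldOut

open Enum (field allRange)

theorem gimg_check0 : allRange (fun i =>
    Nat.beq (Enum.HeA.table.img 0 i) (gimg 0 i) && Nat.beq (Enum.HeA.table.img 1 i) (gimg 1 i) &&
    Nat.beq (Enum.HeA.table.img 2 i) (gimg 2 i) && Nat.beq (Enum.HeA.table.img 3 i) (gimg 3 i)) 64 0 2058 = true := by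
  decide +kernel

theorem gimg_check1 : allRange (fun i =>
    Nat.beq (Enum.HeA.table.img 4 i) (gimg 4 i) && Nat.beq (Enum.HeA.table.img 5 i) (gimg 5 i) &&
    Nat.beq (Enum.HeA.table.img 6 i) (gimg 6 i) &&
    Nat.beq (field 8 Enum.HeA.suborbits.label i) (field 3 labData i)) 64 0 2058 = true := by
  decide +kernel

theorem down_check : allRange (fun p => Nat.beq (down 20 p p) 0) 64 0 2058 = true := by decide +kernel

theorem elems_check : allRange (fun i =>
    Nat.blt (tabF 0 i) 2058 && Nat.blt (tabF 2 i) 2058 &&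
    Nat.beq (gword xWord i) (tabF 0 i) &&
    Nat.beq (gword yWord i) (tabF 2 i) &&
    Nat.beq (gword tWord i) (tabF 4 i) &&
    Nat.beq (gimg 0 i) (tabF 5 i) &&
    Nat.beq (tabF 1 (tabF 0 i)) i && Nat.beq (tabF 3 (tabF 2 i)) i) 64 0 2058 = true := by
  decide +kernel

theorem rels_check : allRange (fun i =>
    Nat.beq (app (xw 17) i) i && Nat.beq (app [2, 4] i) (app [4, 2] i) &&
    Nat.beq (app [0, 2] i) (app [2, 0, 0] i) &&
    Nat.beq (app [4, 4] i) i && Nat.beq (app (List.replicate 6 [0, 4]).flatten i) i &&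
    Nat.beq (app [5, 5] i) i &&
    (List.range 3).all (fun k =>
      Nat.beq (app (5 :: uWords.getD k []) i) (app (uWords.getD k [] ++ [5]) i))) 64 0 2058 = true := by
  decide +kernel

theorem small_check : uWords.length = 3 ∧ uWords.all (fun w => w.all fun l => Nat.blt l 5) = true ∧
    (Nat.beq (app (xw 1) witX) witX = false) ∧ (Nat.beq (app [5] witS) witS = false) ∧
    (Nat.beq (app [4] witT) (app (yw 4) witT) = false) ∧ witX < 2058 ∧ witS < 2058 ∧ witT < 2058 := by
  decide +kernel

theorem gens_check : (List.range 7).all (fun x => allRange (fun i =>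
    Nat.beq (gimg x i) (app (gWords.getD x []) i)) 64 0 2058) = true := by
  decide +kernel

end Cfsg.Agent.HeldOut
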