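import Cfsg.Agent.Lib.Enum.HeMain
import Cfsg.Agent.Lib.HeldOut.Defs
import Cfsg.Agent.Lib.HeldOut.ChecksA

/-! The action of the presented Held group on 2058 points, with its invariants of pairs. -/

set_option autoImplicit false
set_option maxRecDepth 10000

namespace Cfsg.Agent.HeldOut

open Enum (field allRange allRange_spec)
open Enum.Table (beq_eq blt_lt blt_true)

/-- The presented group. -/
abbrev G : Type := Enum.presHe.Grp

/-- Its permutation representation. -/
noncomputable def phi : G →* Equiv.Perm (Fin Enum.HeA.table.N) := Enum.HeM.rep.choose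

theorem phi_g (x : ℕ) : phi (Enum.presHe.g x) = Enum.HeA.table.permOf Enum.HeA.certified.invol x :=
  Enum.HeM.rep.choose_spec.1 x

theorem card_G : Nat.card G = 4030387200 := Enum.HeM.rep.choose_spec.2.1

theorem phi_injective : Function.Injective phi := Enum.HeM.rep.choose_spec.2.2

instance finite_G : Finite G := Nat.finite_of_card_ne_zero (by rw [card_G]; norm_num)

theorem lt_N {i : ℕ} (h : i < 2058) : i < Enum.HeA.table.N := h

/-- The image of a point. -/
noncomputable def im (g : G) (i : ℕ) : ℕ :=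
  if h : i < 2058 then (phi g ⟨i, lt_N h⟩ : ℕ) else i

theorem im_lt (g : G) {i : ℕ} (h : i < 2058) : im g i < 2058 := by
  rw [im, dif_pos h]; exact (phi g ⟨i, lt_N h⟩).isLt

theorem im_val (g : G) (i : Fin Enum.HeA.table.N) : im g i = phi g i := by
  rw [im, dif_pos (show (i : ℕ) < 2058 from i.isLt)]

theorem im_mul (g h : G) (i : ℕ) : im (g * h) i = im g (im h i) := by
  by_cases hi : i < 2058
  · conv_rhs => rw [show im h i = ((phi h ⟨i, lt_N hi⟩ : Fin _) : ℕ) from dif_pos hi, im_val]
    rw [im, dif_pos hi, map_mul, Equiv.Perm.mul_apply]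
  · simp only [im, dif_neg hi]

theorem im_one (i : ℕ) : im 1 i = i := by
  by_cases hi : i < 2058
  · rw [im, dif_pos hi, map_one, Equiv.Perm.one_apply]
  · rw [im, dif_neg hi]

theorem im_inv_im (g : G) (i : ℕ) : im g⁻¹ (im g i) = i := by
  rw [← im_mul, inv_mul_cancel, im_one]

theorem im_inj (g : G) {i j : ℕ} (h : im g i = im g j) : i = j := by
  simpa only [im_inv_im] using congrArg (im g⁻¹) h

theorem ext_im {g h : G} (he : ∀ i < 2058, im g i = im h i) : g = h :=
  phi_injective (Equiv.ext fun i => Fin.ext (by rw [← im_val, ← im_val]; exact he i i.isLt))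

theorem gimg_eq (x : ℕ) {i : ℕ} (hi : i < 2058) : gimg x i = Enum.HeA.table.img x i := by
  have a := allRange_spec 64 0 2058 gimg_check0 i (Nat.zero_le _) (by omega)
  have b := allRange_spec 64 0 2058 gimg_check1 i (Nat.zero_le _) (by omega)
  simp only [Bool.and_eq_true] at a b
  match x with
  | 0 => exact (beq_eq a.1.1.1).symm
  | 1 => exact (beq_eq a.1.1.2).symm
  | 2 => exact (beq_eq a.1.2).symm
  | 3 => exact (beq_eq a.2).symm
  | 4 => exact (beq_eq b.1.1.1).symm
  | 5 => exact (beq_eq b.1.1.2).symm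
  | 6 => exact (beq_eq b.1.2).symm
  | n + 7 =>
    show i = _
    rw [Enum.Table.img, Enum.Table.blt_false (show Enum.HeA.table.ngen ≤ n + 7 from Nat.le_add_left 7 n)]
    rfl

theorem gimg_lt (x : ℕ) {i : ℕ} (hi : i < 2058) : gimg x i < 2058 := by
  rw [gimg_eq x hi]; exact (Enum.Table.img_spec Enum.HeA.invol hi).1

theorem lab_eq {i : ℕ} (hi : i < 2058) : field 8 Enum.HeA.suborbits.label i = field 3 labData i := by
  have b := allRange_spec 64 0 2058 gimg_check1 i (Nat.zero_le _) (by omega)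
  simp only [Bool.and_eq_true] at b
  exact beq_eq b.2

theorem im_g (x : ℕ) {i : ℕ} (hi : i < 2058) : im (Enum.presHe.g x) i = gimg x i := by
  rw [im, dif_pos hi, phi_g, gimg_eq x hi]; rfl

/-- A word in the generators, first letter acting first. -/
def gw (w : List ℕ) : G := (w.reverse.map Enum.presHe.g).prod

theorem gw_nil : gw [] = 1 := rfl

theorem gw_cons (x : ℕ) (w : List ℕ) : gw (x :: w) = gw w * Enum.presHe.g x := by
  simp [gw]

theorem gw_append (u v : List ℕ) : gw (u ++ v) = gw v * gw u := by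
  simp [gw]

theorem im_gw : ∀ (w : List ℕ) {i : ℕ}, i < 2058 → im (gw w) i = gword w i
  | [], i, _ => im_one i
  | x :: w, i, hi => by
    rw [gw_cons, im_mul, im_g x hi,
      im_gw w (gimg_lt x hi)]
    rfl

theorem im_gw_table : ∀ (w : List ℕ) {i : ℕ}, i < 2058 →
    im (gw w) i = Enum.HeA.table.imgWord w i
  | [], i, _ => im_one i
  | x :: w, i, hi => by
    rw [gw_cons, im_mul, im_g x hi, im_gw_table w (gimg_lt x hi), gimg_eq x hi]
    rfl

/-- The six elements. -/
def E : ℕ → G
  | 0 => gw xWord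
  | 1 => (gw xWord)⁻¹
  | 2 => gw yWord
  | 3 => (gw yWord)⁻¹
  | 4 => gw tWord
  | 5 => gw [0]
  | _ => 1

theorem elem_facts {i : ℕ} (hi : i < 2058) :
    im (E 0) i = tabF 0 i ∧ im (E 2) i = tabF 2 i ∧ im (E 4) i = tabF 4 i ∧ im (E 5) i = tabF 5 i ∧
      tabF 1 (tabF 0 i) = i ∧ tabF 3 (tabF 2 i) = i := by
  have h := allRange_spec 64 0 2058 elems_check i (Nat.zero_le _) (by omega)
  simp only [Bool.and_eq_true] at h
  obtain ⟨⟨⟨⟨⟨⟨⟨-, -⟩, h0⟩, h2⟩, h4⟩, h5⟩, h1⟩, h3⟩ := h
  refine ⟨?_, ?_, ?_, ?_, beq_eq h1, beq_eq h3⟩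
  · rw [E, im_gw _ hi]; exact beq_eq h0
  · rw [E, im_gw _ hi]; exact beq_eq h2
  · rw [E, im_gw _ hi]; exact beq_eq h4
  · rw [E, im_gw _ hi]; exact beq_eq h5

theorem im_E (k : ℕ) {i : ℕ} (hi : i < 2058) : im (E k) i = tabF k i := by
  match k with
  | 0 => exact (elem_facts hi).1
  | 2 => exact (elem_facts hi).2.1
  | 4 => exact (elem_facts hi).2.2.1
  | 5 => exact (elem_facts hi).2.2.2.1
  | 1 =>
    have hj : im (E 1) i < 2058 := im_lt _ hi
    have h := (elem_facts hj).2.2.2.2.1
    rw [← (elem_facts hj).1, ← im_mul, show E 0 * E 1 = 1 from mul_inv_cancel _, im_one] at h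
    exact h.symm
  | 3 =>
    have hj : im (E 3) i < 2058 := im_lt _ hi
    have h := (elem_facts hj).2.2.2.2.2
    rw [← (elem_facts hj).2.1, ← im_mul, show E 2 * E 3 = 1 from mul_inv_cancel _, im_one] at h
    exact h.symm
  | n + 6 => exact im_one i

/-- A word in the six elements, first letter acting first. -/
def wE (w : List ℕ) : G := (w.reverse.map E).prod

theorem wE_nil : wE [] = 1 := rfl

theorem wE_cons (x : ℕ) (w : List ℕ) : wE (x :: w) = wE w * E x := by simp [wE]

theorem wE_append (u v : List ℕ) : wE (u ++ v) = wE v * wE u := by simp [wE]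

theorem wE_singleton (x : ℕ) : wE [x] = E x := by simp [wE]

theorem wE_replicate (n x : ℕ) : wE (List.replicate n x) = E x ^ n := by
  simp [wE, List.prod_replicate]

theorem app_append (u v : List ℕ) (i : ℕ) : app (u ++ v) i = app v (app u i) := by
  induction u generalizing i with
  | nil => rfl
  | cons x u ih => exact ih _

theorem im_wE : ∀ (w : List ℕ) {i : ℕ}, i < 2058 → im (wE w) i = app w i
  | [], i, _ => im_one i
  | x :: w, i, hi => by
    rw [wE_cons, im_mul, im_wE w (im_lt _ hi), im_E x hi]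
    rfl

theorem wE_eq {u v : List ℕ} (h : ∀ i < 2058, app u i = app v i) : wE u = wE v :=
  ext_im fun i hi => by rw [im_wE u hi, im_wE v hi, h i hi]

theorem commute_wE {a : G} {w : List ℕ} (h : ∀ l ∈ w, Commute a (E l)) : Commute a (wE w) :=
  Commute.list_prod_right _ _ (by
    intro b hb
    obtain ⟨l, hl, rfl⟩ := List.mem_map.1 hb
    exact h l (List.mem_reverse.1 hl))

theorem down_zero {p : ℕ} (hp : p < 2058) : down 20 p p = 0 :=
  beq_eq (allRange_spec 64 0 2058 down_check p (Nat.zero_le _) (by omega))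

theorem exists_down : ∀ (n p : ℕ), p < 2058 →
    ∃ u : G, ∀ q < 2058, im u q = down n p q
  | 0, _, _ => ⟨1, fun q _ => im_one q⟩
  | n + 1, p, hp => by
    simp only [down]
    cases Nat.beq p 0 with
    | true => exact ⟨1, fun q _ => im_one q⟩
    | false =>
      obtain ⟨u, hu⟩ := exists_down n (gimg (field 4 letData p) p)
        (gimg_lt _ hp)
      refine ⟨u * Enum.presHe.g (field 4 letData p), fun q hq => ?_⟩
      rw [im_mul, im_g _ hq]
      exact hu _ (gimg_lt _ hq)

/-- The label of a point. -/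
def lab (i : ℕ) : ℕ := field 3 labData i

theorem mem_sub_of_fix {h : G} (h0 : im h 0 = 0) : h ∈ Enum.HeA.sub := by
  have c := Enum.HeA.certified
  obtain ⟨φ, f, hφ, hf, hfc⟩ := Enum.Table.orbit_point c
  have he : φ = phi := MonoidHom.eq_of_eqOn_dense Enum.presHe.g_gen (by
    rintro _ ⟨x, rfl⟩; rw [hφ, phi_g])
  have finj : Function.Injective f := by
    intro a b hab
    obtain ⟨i, rfl⟩ := (Enum.Table.coset_bijective c).2 a
    obtain ⟨j, rfl⟩ := (Enum.Table.coset_bijective c).2 b
    rw [hfc, hfc] at hab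
    rw [hab]
  have h1 : f (QuotientGroup.mk (1 : G)) = ⟨0, c.pos⟩ := by rw [← Enum.Table.coset_zero c, hfc]
  have h2 : h • (QuotientGroup.mk (1 : G) : G ⧸ Enum.HeA.sub) = QuotientGroup.mk 1 := by
    apply finj
    rw [hf, h1, he]
    exact Fin.ext (by rw [← im_val]; exact h0)
  have h3 : (QuotientGroup.mk (h * 1) : G ⧸ Enum.HeA.sub) = QuotientGroup.mk 1 := h2
  rw [mul_one, QuotientGroup.eq] at h3
  simpa using h3

theorem lab_im {h : G} (hh : h ∈ Enum.HeA.sub) : ∀ i < 2058, lab (im h i) = lab i := by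
  rw [Enum.HeA.sub_words] at hh
  induction hh using Subgroup.closure_induction with
  | mem a ha =>
    obtain ⟨w, hw, rfl⟩ := ha
    intro i hi
    have hj : im (w.map Enum.presHe.g).prod i < 2058 := im_lt _ hi
    have h := allRange_spec 64 0 2058 Enum.HeA.suborbits_ok _ (Nat.zero_le _)
      (show im (w.map Enum.presHe.g).prod i < 0 + 2058 by omega)
    simp only [Bool.and_eq_true, List.all_eq_true] at h
    have h2 := beq_eq (h.1 w hw)
    rw [lab_eq (Enum.Table.imgWord_lt Enum.HeA.invol w hj), lab_eq hj] at h2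
    rw [show Enum.HeA.table.imgWord w (im (w.map Enum.presHe.g).prod i) =
        im (gw w) (im (w.map Enum.presHe.g).prod i) from (im_gw_table w hj).symm, show gw w = ((w.map Enum.presHe.g).prod)⁻¹ by
        rw [gw, List.map_reverse]; exact Enum.Data.reverse_prod _ Enum.presHe.g_mul_self w, im_inv_im] at h2
    exact h2.symm
  | one => intro i _; rw [im_one]
  | mul a b _ _ iha ihb => intro i hi; rw [im_mul, iha _ (im_lt _ hi), ihb i hi]
  | inv a _ iha =>
    intro i hi
    have := iha _ (im_lt a⁻¹ hi)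
    rwa [← im_mul, mul_inv_cancel, im_one, eq_comm] at this

theorem orb_im (g : G) {p q : ℕ} (hp : p < 2058) (hq : q < 2058) :
    orb (im g p) (im g q) = orb p q := by
  obtain ⟨u, hu⟩ := exists_down 20 p hp
  obtain ⟨v, hv⟩ := exists_down 20 (im g p) (im_lt g hp)
  have h0 : im (v * g * u⁻¹) 0 = 0 := by
    have e : im u⁻¹ 0 = p := by rw [← down_zero hp, ← hu p hp, im_inv_im]
    rw [im_mul, im_mul, e, hv _ (im_lt g hp), down_zero (im_lt g hp)]
  have h := lab_im (mem_sub_of_fix h0) (im u q) (im_lt u hq)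
  rw [im_mul, im_mul, im_inv_im, hv _ (im_lt g hq), hu q hq] at h
  exact h

theorem sameP_im (h : G) {e : ℕ} (he : e < 2058) : ∀ P : List ℕ, (∀ p ∈ P, p < 2058) →
    sameP (P.map (im h)) (im h e) P e = true
  | [], _ => rfl
  | p :: P, hP => by
    rw [List.map_cons, sameP, orb_im h (hP p (by simp)) he,
      sameP_im h he P fun q hq => hP q (List.mem_cons_of_mem _ hq)]
    simp

theorem app_lt (w : List ℕ) {i : ℕ} (hi : i < 2058) : app w i < 2058 := by
  rw [← im_wE w hi]; exact im_lt _ hi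

theorem sameW_im (h : G) {e : ℕ} (he : e < 2058) : ∀ L : List (List ℕ × List ℕ),
    (∀ p ∈ L, h * wE p.2 = wE p.1 * h) → sameW L (im h e) e = true
  | [], _ => rfl
  | p :: L, hL => by
    rw [sameW, sameW_im h he L fun q hq => hL q (List.mem_cons_of_mem _ hq),
      show app p.1 (im h e) = im h (app p.2 e) by
        rw [← im_wE p.1 (im_lt h he), ← im_wE p.2 he, ← im_mul, ← im_mul, hL p (by simp)],
      orb_im h he (app_lt _ he)]
    simp

theorem mem_of_memB {f : ℕ} {l : List ℕ} (h : memB f l = true) : f ∈ l := by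
  simp only [memB, List.any_eq_true] at h
  obtain ⟨a, ha, e⟩ := h
  rwa [beq_eq e]

theorem cover_spec {Q P : List ℕ} {L : List (List ℕ × List ℕ)} {e : ℕ} {cand : List ℕ}
    (hc : cover Q P L e cand = true) (h : G) (he : e < 2058) (hP : ∀ p ∈ P, p < 2058)
    (hQ : P.map (im h) = Q) (hL : ∀ p ∈ L, h * wE p.2 = wE p.1 * h) : im h e ∈ cand := by
  have h' := allRange_spec 64 0 2058 hc (im h e) (Nat.zero_le _) (by have := im_lt h he; omega)
  subst hQ
  rw [sameP_im h he P hP, sameW_im h he L hL] at h'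
  exact mem_of_memB (by simpa using h')

theorem diag_comm {h : G} {W : List (List ℕ)} (hW : ∀ w ∈ W, Commute h (wE w)) :
    ∀ p ∈ diag W, h * wE p.2 = wE p.1 * h := by
  intro p hp
  obtain ⟨w, hw, rfl⟩ := List.mem_map.1 hp
  exact hW w hw

theorem map_fix {h : G} {P : List ℕ} (hP : ∀ p ∈ P, im h p = p) : P.map (im h) = P := by
  conv_rhs => rw [← List.map_id P]
  exact List.map_congr_left hP

theorem keyP_im {h : G} {f : ℕ} (hf : f < 2058) : ∀ (P : List ℕ) (acc : ℕ),
    (∀ p ∈ P, p < 2058 ∧ im h p = p) → keyP P (im h f) acc = keyP P f acc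
  | a :: P, acc, hP => by
    have e : orb a (im h f) = orb a f := by
      have := orb_im h (hP a (by simp)).1 hf
      rwa [(hP a (by simp)).2] at this
    rw [keyP, keyP, e, keyP_im hf P _ fun p hp => hP p (List.mem_cons_of_mem _ hp)]
  | [], _, _ => rfl

theorem keyW_im {h : G} {f : ℕ} (hf : f < 2058) : ∀ (W : List (List ℕ)) (acc : ℕ),
    (∀ w ∈ W, Commute h (wE w)) → keyW W (im h f) acc = keyW W f acc
  | w :: W, acc, hW => by
    have e : app w (im h f) = im h (app w f) := by
      rw [← im_wE w (im_lt h hf), ← im_wE w hf, ← im_mul, ← im_mul, (hW w (by simp)).eq]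
    rw [keyW, keyW, e, orb_im h hf (app_lt _ hf),
      keyW_im hf W _ fun v hv => hW v (List.mem_cons_of_mem _ hv)]
  | [], _, _ => rfl

theorem key_im {h : G} {f : ℕ} (hf : f < 2058) (P : List ℕ) (W : List (List ℕ)) (acc : ℕ)
    (hP : ∀ p ∈ P, p < 2058 ∧ im h p = p) (hW : ∀ w ∈ W, Commute h (wE w)) :
    key P W (im h f) acc = key P W f acc := by
  rw [key, key, keyP_im hf P acc hP, keyW_im hf W _ hW]

/-- An element fixing a separating set of invariants is trivial. -/
theorem eq_one_of_sort {P : List ℕ} {W : List (List ℕ)} {ord pos ks : ℕ} {wid : ℕ}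
    (hs : ∀ i < 2058, sortOk P W ord pos ks wid i = true) {h : G}
    (hP : ∀ p ∈ P, p < 2058 ∧ im h p = p) (hW : ∀ w ∈ W, Commute h (wE w)) : h = 1 := by
  have hrow : ∀ f < 2058, field 12 pos f < 2058 ∧ field 12 ord (field 12 pos f) = f ∧
      field wid ks (field 12 pos f) = key P W f 0 ∧
      (f ≠ 0 → field wid ks (f - 1) < field wid ks f) := by
    intro f hf
    have h := hs f hf
    simp only [sortOk, Bool.and_eq_true, Bool.or_eq_true] at h
    exact ⟨blt_lt h.1.1.1, beq_eq h.1.1.2, beq_eq h.1.2, fun h0 =>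
      h.2.elim (fun e => absurd (beq_eq e) h0) blt_lt⟩
  have mono : ∀ b, b < 2058 → ∀ a < b, field wid ks a < field wid ks b := by
    intro b
    induction b with
    | zero => intro _ a ha; omega
    | succ b ih =>
      intro hb a ha
      have h1 := (hrow (b + 1) hb).2.2.2 (by omega)
      simp only [Nat.add_sub_cancel] at h1
      rcases Nat.lt_or_ge a b with h2 | h2
      · exact (ih (by omega) a h2).trans h1
      · rw [show a = b by omega]; exact h1
  refine ext_im fun f hf => ?_
  obtain ⟨a1, a2, a3, -⟩ := hrow f hf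
  obtain ⟨b1, b2, b3, -⟩ := hrow _ (im_lt h hf)
  rw [key_im hf P W 0 hP hW, ← a3] at b3
  rw [im_one]
  refine b2.symm.trans (Eq.trans (congrArg _ ?_) a2)
  rcases Nat.lt_trichotomy (field 12 pos (im h f)) (field 12 pos f) with h' | h' | h'
  · exact absurd b3 (Nat.ne_of_lt (mono _ a1 _ h'))
  · exact h'
  · exact absurd b3.symm (Nat.ne_of_lt (mono _ b1 _ h'))

end Cfsg.Agent.HeldOut
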