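import Cfsg.Agent.Lib.Enum.PresHe
import Cfsg.Agent.Lib.HeldOut.Defs

/-! Checks for the outer automorphism. -/

set_option autoImplicit false
set_option maxRecDepth 10000
set_option Elab.async false

namespace Cfsg.Agent.HeldOut

open Enum (field allRange)

theorem itab_check : (List.range 7).all (fun x => allRange (fun i =>
    Nat.beq (gword (iWords.getD x []) i) (itabF x i) &&
      Nat.blt (itabF x i) 2058 && Nat.beq (itabF x (itabF x i)) i) 64 0 2058) = true := by
  decide +kernel

theorem irels_check : Enum.presHe.relWords.all (fun w => allRange (fun i =>
    Nat.beq (appT itabF w.reverse i) i) 64 0 2058) = true := by decide +kernel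

theorem ix_check : allRange (fun i => Nat.beq (appT itabF xWord i) (app (xw 3) i)) 64 0 2058 = true := by
  decide +kernel

theorem ilen_check : iWords.length = 7 ∧ xWord.all (fun l => Nat.blt l 7) = true := by decide +kernel

end Cfsg.Agent.HeldOut
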