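import Cfsg.Agent.Lib.HeldOut.Defs

/-! Checks for the element outside the stabiliser. -/

set_option autoImplicit false
set_option maxRecDepth 10000
set_option Elab.async false

namespace Cfsg.Agent.HeldOut

open Enum (field allRange)

theorem basicS_check : eS < 2058 ∧ extS < 2058 ∧ Nat.beq (app [5] eS) eS2 = true ∧
    singS.all (fun z => Nat.blt z 2058) = true ∧
    pathS.map (fun p => app (flatU p) eS) = reachS := by decide +kernel

theorem coverS_check : cover [] [] (diag wordsS) eS [eS, eS2] = true := by decide +kernel

theorem coverSing_check : singS.all (fun z => cover [] [] (diag wordsS) z [z]) = true := by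
  decide +kernel

theorem coverExt_check : cover ptsS ptsS (diag wordsS) extS [extS] = true := by decide +kernel

theorem sortS_check0 : allRange (sortOk (extS :: ptsS) wordsS ordS posS keysS widS) 64 0 343 = true := by
  decide +kernel

theorem sortS_check1 : allRange (sortOk (extS :: ptsS) wordsS ordS posS keysS widS) 64 343 343 = true := by
  decide +kernel

theorem sortS_check2 : allRange (sortOk (extS :: ptsS) wordsS ordS posS keysS widS) 64 686 343 = true := by
  decide +kernel

theorem sortS_check3 : allRange (sortOk (extS :: ptsS) wordsS ordS posS keysS widS) 64 1029 343 = true := by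
  decide +kernel

theorem sortS_check4 : allRange (sortOk (extS :: ptsS) wordsS ordS posS keysS widS) 64 1372 343 = true := by
  decide +kernel

theorem sortS_check5 : allRange (sortOk (extS :: ptsS) wordsS ordS posS keysS widS) 64 1715 343 = true := by
  decide +kernel

theorem sortS_check : ∀ i < 2058, sortOk (extS :: ptsS) wordsS ordS posS keysS widS i = true :=
  range_six sortS_check0 sortS_check1 sortS_check2 sortS_check3 sortS_check4 sortS_check5

end Cfsg.Agent.HeldOut
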