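import Cfsg.Agent.Lib.HeldOut.Defs

/-! Checks for the element of order 17. -/

set_option autoImplicit false
set_option maxRecDepth 10000
set_option Elab.async false

namespace Cfsg.Agent.HeldOut

open Enum (field allRange)

theorem fixX_check : allRange (fun i => Nat.beq i pA || !Nat.beq (tabF 0 i) i) 64 0 2058 = true := by
  decide +kernel

theorem basicX_check : pA < 2058 ∧ bX < 2058 ∧ bO < 2058 ∧ Nat.beq (tabF 0 pA) pA = true ∧
    (List.range 17).map (fun k => app (xw k) bX) = orbX := by decide +kernel

theorem coverX_check : cover [pA] [pA] (diag wordsX) bX orbX = true := by decide +kernel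

theorem coverO_check : cover [pA] [pA] pairsO bO [] = true := by decide +kernel

theorem sortX_check0 : allRange (sortOk baseX [] ordX posX keysX widX) 64 0 343 = true := by
  decide +kernel

theorem sortX_check1 : allRange (sortOk baseX [] ordX posX keysX widX) 64 343 343 = true := by
  decide +kernel

theorem sortX_check2 : allRange (sortOk baseX [] ordX posX keysX widX) 64 686 343 = true := by
  decide +kernel

theorem sortX_check3 : allRange (sortOk baseX [] ordX posX keysX widX) 64 1029 343 = true := by
  decide +kernel

theorem sortX_check4 : allRange (sortOk baseX [] ordX posX keysX widX) 64 1372 343 = true := by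
  decide +kernel

theorem sortX_check5 : allRange (sortOk baseX [] ordX posX keysX widX) 64 1715 343 = true := by
  decide +kernel

theorem sortX_check : ∀ i < 2058, sortOk baseX [] ordX posX keysX widX i = true :=
  range_six sortX_check0 sortX_check1 sortX_check2 sortX_check3 sortX_check4 sortX_check5

theorem baseX_check : baseX.all (fun p => memB p (pA :: orbX)) = true := by decide +kernel

end Cfsg.Agent.HeldOut
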