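import Cfsg.Agent.Lib.HeldOut.Defs

/-! Checks for the element of order 8. -/

set_option autoImplicit false
set_option maxRecDepth 10000
set_option Elab.async false

namespace Cfsg.Agent.HeldOut

open Enum (field allRange)

theorem fixY_check :
    allRange (fun i => Nat.beq i pA || Nat.beq i pB || !Nat.beq (tabF 2 i) i) 64 0 2058 = true := by
  decide +kernel

theorem basicY_check : pA < 2058 ∧ pB < 2058 ∧ eA < 2058 ∧ eB < 2058 ∧ Nat.beq pA pB = false ∧
    Nat.beq (tabF 2 pA) pA = true ∧ Nat.beq (tabF 2 pB) pB = true ∧
    ptsY = pA :: pB :: (orbY eA ++ orbY eB) ∧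
    (List.range 16).all (fun n => Nat.beq (app (g16 n) pA) pA && Nat.beq (app (g16 n) pB) pB) = true := by
  decide +kernel

theorem coverIdA_check : cover [pA, pB] [pA, pB] (diag wordsY) eA candIdA = true := by decide +kernel
theorem coverIdB_check : cover [pA, pB] [pA, pB] (diag wordsY) eB candIdB = true := by decide +kernel
theorem coverSwA_check : cover [pB, pA] [pA, pB] (diag wordsY) eA candSwA = true := by decide +kernel
theorem coverSwB_check : cover [pB, pA] [pA, pB] (diag wordsY) eB candSwB = true := by decide +kernel

theorem pairId_check : candIdA.all (fun f => candIdB.all fun f' =>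
    !sameP (orbY f) f' (orbY eA) eB ||
      (List.range 16).any fun n => Nat.beq (app (g16 n) eA) f && Nat.beq (app (g16 n) eB) f') = true := by
  decide +kernel

theorem pairSw_check : candSwA.all (fun f => candSwB.all fun f' =>
    !sameP (orbY f) f' (orbY eA) eB) = true := by decide +kernel

theorem sortY_check0 : allRange (sortOk baseY [] ordY posY keysY widY) 64 0 343 = true := by
  decide +kernel

theorem sortY_check1 : allRange (sortOk baseY [] ordY posY keysY widY) 64 343 343 = true := by
  decide +kernel

theorem sortY_check2 : allRange (sortOk baseY [] ordY posY keysY widY) 64 686 343 = true := by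
  decide +kernel

theorem sortY_check3 : allRange (sortOk baseY [] ordY posY keysY widY) 64 1029 343 = true := by
  decide +kernel

theorem sortY_check4 : allRange (sortOk baseY [] ordY posY keysY widY) 64 1372 343 = true := by
  decide +kernel

theorem sortY_check5 : allRange (sortOk baseY [] ordY posY keysY widY) 64 1715 343 = true := by
  decide +kernel

theorem sortY_check : ∀ i < 2058, sortOk baseY [] ordY posY keysY widY i = true :=
  range_six sortY_check0 sortY_check1 sortY_check2 sortY_check3 sortY_check4 sortY_check5

theorem witY_check : (List.range 16).all (fun n => Nat.beq n 1 || Nat.beq n 8 ||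
    (Nat.blt (witY.getD n 0) 2058 &&
      (!Nat.beq (app (g16 n ++ g16 n) (witY.getD n 0)) (witY.getD n 0) ||
       !Nat.beq (app (List.replicate 6 (0 :: g16 n)).flatten (witY.getD n 0)) (witY.getD n 0)))) = true := by
  decide +kernel

theorem baseY_check : baseY.all (fun p => memB p ptsY) = true := by decide +kernel

end Cfsg.Agent.HeldOut
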