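import Cfsg.Agent.Lib.HeldOut.Base
import Cfsg.Agent.Lib.HeldOut.ChecksX
import Cfsg.Agent.Lib.HeldOut.ChecksY
import Cfsg.Agent.Lib.HeldOut.ChecksS

/-! An automorphism of He fixing an element of order 17 is conjugation by one of its powers. -/

set_option autoImplicit false
set_option maxRecDepth 10000

namespace Cfsg.Agent.HeldOut

open Enum (field allRange allRange_spec)
open Enum.Table (beq_eq blt_lt)

theorem ne_of_beq_false {a b : ℕ} (h : Nat.beq a b = false) : a ≠ b := Nat.ne_of_beq_eq_false h

theorem rel_facts (i : ℕ) (hi : i < 2058) :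
    app (xw 17) i = i ∧ app [2, 4] i = app [4, 2] i ∧ app [0, 2] i = app [2, 0, 0] i ∧
    app [4, 4] i = i ∧ app (List.replicate 6 [0, 4]).flatten i = i ∧ app [5, 5] i = i ∧
    ∀ k < 3, app (5 :: uWords.getD k []) i = app (uWords.getD k [] ++ [5]) i := by
  have h := allRange_spec 64 0 2058 rels_check i (Nat.zero_le _) (by omega)
  simp only [Bool.and_eq_true, List.all_eq_true, List.mem_range] at h
  obtain ⟨⟨⟨⟨⟨⟨h1, h2⟩, h3⟩, h4⟩, h5⟩, h6⟩, h7⟩ := h
  exact ⟨beq_eq h1, beq_eq h2, beq_eq h3, beq_eq h4, beq_eq h5, beq_eq h6, fun k hk => beq_eq (h7 k hk)⟩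

theorem x_pow : E 0 ^ 17 = 1 := by
  rw [← wE_replicate, ← wE_nil]
  exact wE_eq fun i hi => (rel_facts i hi).1

theorem comm_t_y : Commute (E 4) (E 2) := by
  have h := wE_eq fun i hi => (rel_facts i hi).2.1
  simpa [Commute, SemiconjBy, wE] using h

theorem y_mul_x : E 2 * E 0 = E 0 ^ 2 * E 2 := by
  have h := wE_eq fun i hi => (rel_facts i hi).2.2.1
  simpa [wE, pow_two, mul_assoc] using h

theorem t_sq : E 4 * E 4 = 1 := by
  have h := wE_eq (u := [4, 4]) (v := []) fun i hi => (rel_facts i hi).2.2.2.1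
  simpa [wE] using h

theorem tx_pow : (E 4 * E 0) ^ 6 = 1 := by
  have h := wE_eq (u := (List.replicate 6 [0, 4]).flatten) (v := [])
    fun i hi => (rel_facts i hi).2.2.2.2.1
  simpa [wE, List.replicate_succ, pow_succ, mul_assoc] using h

theorem s_sq : E 5 * E 5 = 1 := by
  have h := wE_eq (u := [5, 5]) (v := []) fun i hi => (rel_facts i hi).2.2.2.2.2.1
  simpa [wE] using h

theorem s_comm (k : ℕ) : Commute (E 5) (wE (uWords.getD k [])) := by
  rcases Nat.lt_or_ge k 3 with hk | hk
  · have h := wE_eq fun i hi => (rel_facts i hi).2.2.2.2.2.2 k hk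
    rw [wE_cons, wE_append, wE_singleton] at h
    exact h.symm
  · rw [List.getD_eq_default _ _ (by rw [small_check.1]; exact hk), wE_nil]
    exact Commute.one_right _

theorem flatU_comm {h : G} (hh : ∀ k, Commute h (wE (uWords.getD k []))) :
    ∀ w : List ℕ, Commute h (wE (flatU w))
  | [] => by rw [flatU, wE_nil]; exact Commute.one_right _
  | i :: w => by rw [flatU, wE_append]; exact (flatU_comm hh w).mul_right (hh i)

theorem x_ne_one : E 0 ≠ 1 := fun h => by
  obtain ⟨-, -, hw, -, -, hb, -⟩ := small_check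
  apply ne_of_beq_false hw
  rw [← im_wE _ hb, xw, wE_replicate, pow_one, h, im_one]

theorem orderOf_x : orderOf (E 0) = 17 :=
  haveI : Fact (Nat.Prime 17) := ⟨by norm_num⟩
  orderOf_eq_prime x_pow x_ne_one

theorem x_pow_mod (n : ℕ) : E 0 ^ n = E 0 ^ (n % 17) := by
  rw [← orderOf_x, pow_mod_orderOf]

theorem commute_xw {h : G} (hh : Commute h (E 0)) (k : ℕ) : Commute h (wE (xw k)) := by
  rw [xw, wE_replicate]; exact hh.pow_right k

theorem commute_yw {h : G} (hh : Commute h (E 2)) (k : ℕ) : Commute h (wE (yw k)) := by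
  rw [yw, wE_replicate]; exact hh.pow_right k

theorem fix_app {h : G} {w : List ℕ} {b : ℕ} (hb : b < 2058) (hc : Commute h (wE w))
    (hf : im h b = b) : im h (app w b) = app w b := by
  rw [← im_wE w hb, ← im_mul, hc.eq, im_mul, hf]

theorem im_pA_x : im (E 0) pA = pA := by
  rw [im_E 0 basicX_check.1]; exact beq_eq basicX_check.2.2.2.1

theorem fix_pA {h : G} (hh : Commute h (E 0)) : im h pA = pA := by
  have hp := basicX_check.1
  have e : im (E 0) (im h pA) = im h pA := by rw [← im_mul, ← hh.eq, im_mul, im_pA_x]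
  have h' := allRange_spec 64 0 2058 fixX_check (im h pA) (Nat.zero_le _)
    (by have := im_lt h hp; omega)
  rw [im_E 0 (im_lt h hp)] at e
  rw [e] at h'
  simp only [Nat.beq_refl, Bool.not_true, Bool.or_false] at h'
  exact beq_eq h'

theorem orbX_eq (p : ℕ) (hp : p ∈ orbX) : ∃ k < 17, p = app (xw k) bX := by
  rw [← basicX_check.2.2.2.2] at hp
  obtain ⟨k, hk, rfl⟩ := List.mem_map.1 hp
  exact ⟨k, List.mem_range.1 hk, rfl⟩

/-- The centraliser of the element of order 17. -/
theorem cent_x {h : G} (hh : Commute h (E 0)) : ∃ m < 17, h = E 0 ^ m := by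
  obtain ⟨hp, hb, -⟩ := basicX_check
  have hP : ∀ p ∈ [pA], im h p = p := by simpa using fix_pA hh
  have hmem := cover_spec coverX_check h hb (by simpa using hp) (map_fix hP)
    (diag_comm fun w hw => by
      obtain ⟨k, -, rfl⟩ := List.mem_map.1 hw; exact commute_xw hh _)
  obtain ⟨m, hm, e⟩ := orbX_eq _ hmem
  refine ⟨m, hm, ?_⟩
  rw [← im_wE _ hb, xw, wE_replicate] at e
  suffices hk : (E 0 ^ m)⁻¹ * h = 1 from (inv_mul_eq_one.1 hk).symm
  have hkb : im ((E 0 ^ m)⁻¹ * h) bX = bX := by rw [im_mul, e, im_inv_im]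
  have hkc : Commute ((E 0 ^ m)⁻¹ * h) (E 0) := ((Commute.refl _).pow_left m).inv_left.mul_left hh
  refine eq_one_of_sort sortX_check (fun p hp0 => ?_) (by simp)
  have hp' := mem_of_memB (List.all_eq_true.1 baseX_check p hp0)
  rcases List.mem_cons.1 hp' with rfl | hp'
  · exact ⟨hp, fix_pA hkc⟩
  · obtain ⟨k, -, rfl⟩ := orbX_eq p hp'
    exact ⟨app_lt _ hb, fix_app hb (commute_xw hkc k) hkb⟩

theorem g16_comm (n : ℕ) : Commute (wE (g16 n)) (E 2) := by
  refine (commute_wE fun l hl => ?_).symm
  simp only [g16, yw, List.mem_append, List.mem_replicate] at hl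
  rcases hl with ⟨-, rfl⟩ | ⟨-, rfl⟩
  · exact Commute.refl _
  · exact comm_t_y.symm

/-- The centraliser of the element of order 8. -/
theorem cent_y {h : G} (hh : Commute h (E 2)) : ∃ n < 16, h = wE (g16 n) := by
  obtain ⟨hA, hB, heA, heB, hAB, hfA, hfB, hpts, hg⟩ := basicY_check
  simp only [List.all_eq_true, List.mem_range, Bool.and_eq_true] at hg
  have hne : pA ≠ pB := ne_of_beq_false hAB
  have hfix : ∀ p, p < 2058 → im (E 2) p = p → p = pA ∨ p = pB := by
    intro p hp e
    have h' := allRange_spec 64 0 2058 fixY_check p (Nat.zero_le _) (by omega)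
    rw [im_E 2 hp] at e
    rw [e] at h'
    simp only [Nat.beq_refl, Bool.not_true, Bool.or_false, Bool.or_eq_true] at h'
    exact h'.imp beq_eq beq_eq
  have hmv : ∀ p, p < 2058 → im (E 2) p = p → im h p = pA ∨ im h p = pB := fun p hp e =>
    hfix _ (im_lt h hp) (by rw [← im_mul, ← hh.eq, im_mul, e])
  have eqA : im (E 2) pA = pA := by rw [im_E 2 hA]; exact beq_eq hfA
  have eqB : im (E 2) pB = pB := by rw [im_E 2 hB]; exact beq_eq hfB
  have hW : ∀ w ∈ wordsY, Commute h (wE w) := by
    intro w hw; obtain ⟨k, -, rfl⟩ := List.mem_map.1 hw; exact commute_yw hh _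
  have horb : sameP (orbY (im h eA)) (im h eB) (orbY eA) eB = true := by
    have e : orbY (im h eA) = (orbY eA).map (im h) := by
      simp only [orbY, List.map_map]
      refine List.map_congr_left fun k _ => ?_
      show app (yw k) (im h eA) = im h (app (yw k) eA)
      rw [← im_wE _ (im_lt h heA), ← im_wE _ heA, ← im_mul, ← im_mul, (commute_yw hh k).eq]
    rw [e]
    refine sameP_im h heB _ fun p hp => ?_
    obtain ⟨k, -, rfl⟩ := List.mem_map.1 hp
    exact app_lt _ heA
  have hPlt : ∀ p ∈ [pA, pB], p < 2058 := by simp [hA, hB]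
  rcases hmv pA hA eqA with e1 | e1
  · have e2 : im h pB = pB :=
      (hmv pB hB eqB).resolve_left fun e => hne (im_inj h (e1.trans e.symm))
    have hQ : [pA, pB].map (im h) = [pA, pB] := by simp [e1, e2]
    have m1 := cover_spec coverIdA_check h heA hPlt hQ (diag_comm hW)
    have m2 := cover_spec coverIdB_check h heB hPlt hQ (diag_comm hW)
    have h' := pairId_check
    simp only [List.all_eq_true] at h'
    have h'' := h' _ m1 _ m2
    rw [horb] at h''
    simp only [Bool.not_true, Bool.false_or, List.any_eq_true, List.mem_range, Bool.and_eq_true] at h''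
    obtain ⟨n, hn, a1, a2⟩ := h''
    refine ⟨n, hn, ?_⟩
    suffices hk : (wE (g16 n))⁻¹ * h = 1 from (inv_mul_eq_one.1 hk).symm
    have hkA : im ((wE (g16 n))⁻¹ * h) eA = eA := by
      rw [im_mul, ← beq_eq a1, ← im_wE _ heA, im_inv_im]
    have hkB : im ((wE (g16 n))⁻¹ * h) eB = eB := by
      rw [im_mul, ← beq_eq a2, ← im_wE _ heB, im_inv_im]
    have hkc : Commute ((wE (g16 n))⁻¹ * h) (E 2) := (g16_comm n).inv_left.mul_left hh
    refine eq_one_of_sort sortY_check (fun p hp0 => ?_) (by simp)
    have hp := mem_of_memB (List.all_eq_true.1 baseY_check p hp0)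
    rw [hpts] at hp
    simp only [List.mem_cons, List.mem_append, orbY, List.mem_map] at hp
    rcases hp with rfl | rfl | ⟨k, -, rfl⟩ | ⟨k, -, rfl⟩
    · refine ⟨hA, ?_⟩
      rw [im_mul, e1]
      nth_rewrite 1 [← beq_eq (hg n hn).1]
      rw [← im_wE _ hA, im_inv_im]
    · refine ⟨hB, ?_⟩
      rw [im_mul, e2]
      nth_rewrite 1 [← beq_eq (hg n hn).2]
      rw [← im_wE _ hB, im_inv_im]
    · exact ⟨app_lt _ heA, fix_app heA (commute_yw hkc k) hkA⟩
    · exact ⟨app_lt _ heB, fix_app heB (commute_yw hkc k) hkB⟩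
  · exfalso
    have e2 : im h pB = pA :=
      (hmv pB hB eqB).resolve_right fun e => hne (im_inj h (e1.trans e.symm))
    have hQ : [pA, pB].map (im h) = [pB, pA] := by simp [e1, e2]
    have m1 := cover_spec coverSwA_check h heA hPlt hQ (diag_comm hW)
    have m2 := cover_spec coverSwB_check h heB hPlt hQ (diag_comm hW)
    have h' := pairSw_check
    simp only [List.all_eq_true] at h'
    have h'' := h' _ m1 _ m2
    rw [horb] at h''
    exact Bool.false_ne_true h''

/-- The common centraliser of the subgroup centralised by `s`. -/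
theorem cent_s {h : G} (hh : ∀ k, Commute h (wE (uWords.getD k []))) : h = 1 ∨ h = E 5 := by
  obtain ⟨he, hext, hes, hsing, hreach⟩ := basicS_check
  simp only [List.all_eq_true] at hsing
  have hWS : ∀ {k : G}, (∀ i, Commute k (wE (uWords.getD i []))) → ∀ w ∈ wordsS, Commute k (wE w) := by
    intro k hk w hw
    obtain ⟨l, -, rfl⟩ := List.mem_map.1 hw
    exact flatU_comm hk l
  have key : ∀ k : G, (∀ i, Commute k (wE (uWords.getD i []))) → im k eS = eS → k = 1 := by
    intro k hk hke
    have hpts : ∀ p ∈ ptsS, p < 2058 ∧ im k p = p := by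
      intro p hp
      rcases List.mem_append.1 hp with hp | hp
      · rw [← hreach] at hp
        obtain ⟨l, -, rfl⟩ := List.mem_map.1 hp
        exact ⟨app_lt _ he, fix_app he (flatU_comm hk l) hke⟩
      · have hc := coverSing_check
        simp only [List.all_eq_true] at hc
        have hz := blt_lt (hsing p hp)
        exact ⟨hz, List.mem_singleton.1
          (cover_spec (hc p hp) k hz (by simp) rfl (diag_comm (hWS hk)))⟩
    have hx : im k extS = extS := List.mem_singleton.1
      (cover_spec coverExt_check k hext (fun p hp => (hpts p hp).1)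
        (map_fix fun p hp => (hpts p hp).2) (diag_comm (hWS hk)))
    refine eq_one_of_sort sortS_check (fun p hp => ?_) (hWS hk)
    rcases List.mem_cons.1 hp with rfl | hp
    · exact ⟨hext, hx⟩
    · exact hpts p hp
  have hm := cover_spec coverS_check h he (by simp) rfl (diag_comm (hWS hh))
  simp only [List.mem_cons, List.not_mem_nil, or_false] at hm
  rcases hm with e | e
  · exact Or.inl (key h hh e)
  · right
    have h2 : E 5 * h = 1 := by
      refine key _ (fun i => (s_comm i).mul_left (hh i)) ?_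
      rw [im_mul, e, ← beq_eq hes, ← im_wE _ he, wE_singleton, ← im_mul, s_sq, im_one]
    calc h = E 5 * (E 5 * h) := by rw [← mul_assoc, s_sq, one_mul]
      _ = E 5 := by rw [h2, mul_one]

theorem map_wE (β : MulAut G) {w : List ℕ} (h : ∀ l ∈ w, β (E l) = E l) : β (wE w) = wE w := by
  rw [wE, map_list_prod, List.map_map]
  exact congrArg List.prod (List.map_congr_left fun l hl => h l (List.mem_reverse.1 hl))

theorem gen_eq (x : ℕ) (hx : x < 7) : Enum.presHe.g x = wE (gWords.getD x []) := by
  have h := gens_check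
  simp only [List.all_eq_true, List.mem_range] at h
  refine ext_im fun i hi => ?_
  rw [im_g x hi, im_wE _ hi]
  exact beq_eq (allRange_spec 64 0 2058 (h x hx) i (Nat.zero_le _) (by omega))

/-- An automorphism fixing `x` and `y` is trivial. -/
theorem aut_eq_one {β : MulAut G} (h0 : β (E 0) = E 0) (h2 : β (E 2) = E 2) : β = 1 := by
  obtain ⟨n, hn, e⟩ := cent_y (h := β (E 4))
    (by have := congrArg β comm_t_y.eq; simpa [map_mul, h2, Commute, SemiconjBy] using this)
  have hw := witY_check
  simp only [List.all_eq_true, List.mem_range, Bool.or_eq_true, Bool.and_eq_true] at hw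
  have h4 : β (E 4) = E 4 := by
    rcases hw n hn with (h | h) | h
    · rw [e, beq_eq h]; simp [g16, yw, wE]
    · exfalso
      rw [beq_eq h] at e
      have e' : β (E 4) = β (wE (yw 4)) := by
        rw [map_wE β (fun l hl => by rw [List.eq_of_mem_replicate hl, h2]), e]
        rfl
      have e'' := β.injective e'
      obtain ⟨-, -, -, -, hwt, -, -, hb⟩ := small_check
      apply ne_of_beq_false hwt
      rw [← im_wE _ hb, ← im_wE _ hb, wE_singleton, e'']
    · exfalso
      obtain ⟨hlt, h⟩ := h
      have hb := blt_lt hlt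
      have hc2 : wE (g16 n ++ g16 n) = 1 := by
        rw [wE_append, ← e, ← map_mul, t_sq, map_one]
      have hc6 : wE (List.replicate 6 (0 :: g16 n)).flatten = 1 := by
        have hx : ∀ m, wE (List.replicate m (0 :: g16 n)).flatten = (β (E 4) * E 0) ^ m := by
          intro m
          induction m with
          | zero => rw [pow_zero]; rfl
          | succ m ih => rw [List.replicate_succ, List.flatten_cons, wE_append, ih, wE_cons, ← e, pow_succ]
        rw [hx]
        rw [← h0]
        rw [← map_mul, ← map_pow, tx_pow, map_one]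
      rw [← im_wE _ hb, ← im_wE _ hb, hc2, hc6, im_one] at h
      simp at h
  have hlow : ∀ l, l < 5 → β (E l) = E l := by
    intro l hl
    interval_cases l
    · exact h0
    · show β (gw xWord)⁻¹ = (gw xWord)⁻¹
      rw [map_inv, show β (gw xWord) = gw xWord from h0]
    · exact h2
    · show β (gw yWord)⁻¹ = (gw yWord)⁻¹
      rw [map_inv, show β (gw yWord) = gw yWord from h2]
    · exact h4
  have hu : ∀ k, β (wE (uWords.getD k [])) = wE (uWords.getD k []) := fun k => map_wE β fun l hl => by
    obtain ⟨hlen, hu, -⟩ := small_check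
    simp only [List.all_eq_true] at hu
    rcases Nat.lt_or_ge k 3 with hk | hk
    · rw [List.getD_eq_getElem _ _ (by omega)] at hl
      exact hlow l (blt_lt (hu _ (List.getElem_mem _) l hl))
    · rw [List.getD_eq_default _ _ (by omega)] at hl; simp at hl
  have hs : ∀ k, Commute (β (E 5)) (wE (uWords.getD k [])) := fun k => by
    have := congrArg β (s_comm k).eq
    rwa [map_mul, map_mul, hu] at this
  have h5 : β (E 5) = E 5 := by
    refine (cent_s hs).resolve_left fun h1 => ?_
    have h1' : E 5 = 1 := β.injective (h1.trans (map_one β).symm)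
    obtain ⟨-, -, -, hws, -, -, hb, -⟩ := small_check
    apply ne_of_beq_false hws
    rw [← im_wE _ hb, wE_singleton, h1', im_one]
  have hall : ∀ l, β (E l) = E l := by
    intro l
    match l with
    | 0 | 1 | 2 | 3 | 4 => exact hlow _ (by norm_num)
    | 5 => exact h5
    | n + 6 => exact map_one β
  have hm : β.toMonoidHom = MonoidHom.id G := MonoidHom.eq_of_eqOn_dense Enum.presHe.g_gen (by
    rintro _ ⟨x, rfl⟩
    rcases Nat.lt_or_ge x 7 with hx | hx
    · show β _ = _
      rw [gen_eq x hx]; exact map_wE β fun l _ => hall l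
    · show β _ = _
      rw [Enum.presHe.g_junk x hx]; exact map_one β)
  exact MulEquiv.ext fun g => DFunLike.congr_fun hm g

/-- An automorphism fixing `x` is conjugation by a power of `x`. -/
theorem fix_x {α : MulAut G} (hx : α (E 0) = E 0) : ∃ m < 17, α = MulAut.conj (E 0 ^ m) := by
  have hy : α (E 2) * E 0 = E 0 ^ 2 * α (E 2) := by
    have := congrArg α y_mul_x
    rwa [map_mul, map_mul, map_pow, hx] at this
  obtain ⟨m, -, hm⟩ := cent_x (h := (E 2)⁻¹ * α (E 2)) (by
    show _ * _ = _ * _
    rw [mul_assoc, hy, ← mul_assoc, ← mul_assoc]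
    congr 1
    rw [inv_mul_eq_iff_eq_mul, ← mul_assoc, y_mul_x, mul_inv_cancel_right])
  rw [inv_mul_eq_iff_eq_mul] at hm
  refine ⟨15 * m % 17, Nat.mod_lt _ (by norm_num), ?_⟩
  rw [← x_pow_mod]
  have hbe : α = MulAut.conj (E 0 ^ (15 * m)) * ((MulAut.conj (E 0 ^ (15 * m)))⁻¹ * α) :=
    (mul_inv_cancel_left _ _).symm
  have hone : (MulAut.conj (E 0 ^ (15 * m)))⁻¹ * α = 1 := by
    refine aut_eq_one ?_ ?_
    · rw [MulAut.mul_apply, hx, MulAut.inv_apply, MulAut.conj_symm_apply]
      group
    · rw [MulAut.mul_apply, hm, MulAut.inv_apply, MulAut.conj_symm_apply]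
      have hy' : ∀ k, E 2 * E 0 ^ k = E 0 ^ (2 * k) * E 2 := by
        intro k
        rw [pow_mul]
        exact SemiconjBy.pow_right (show SemiconjBy (E 2) (E 0) (E 0 ^ 2) from y_mul_x) k
      have h9 : E 0 ^ (15 * m) * E 2 = E 2 * E 0 ^ (9 * (15 * m)) := by
        rw [hy', x_pow_mod, x_pow_mod (2 * (9 * (15 * m)))]
        congr 2
        omega
      calc (E 0 ^ (15 * m))⁻¹ * (E 2 * E 0 ^ m) * E 0 ^ (15 * m)
          = (E 0 ^ (15 * m))⁻¹ * (E 2 * E 0 ^ (m + 15 * m)) := by rw [pow_add]; group
        _ = (E 0 ^ (15 * m))⁻¹ * (E 2 * E 0 ^ (9 * (15 * m))) := by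
            rw [x_pow_mod (m + 15 * m), x_pow_mod (9 * (15 * m))]
            congr 3
            omega
        _ = E 2 := by rw [← h9, inv_mul_cancel_left]
  rw [hone, mul_one] at hbe
  exact hbe

end Cfsg.Agent.HeldOut
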