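import Cfsg.Agent.Lib.HeldOut.Fix
import Cfsg.Agent.Lib.HeldOut.ChecksI

/-! An automorphism of He which is not inner. -/

set_option autoImplicit false
set_option maxRecDepth 10000

namespace Cfsg.Agent.HeldOut

open Enum (field allRange allRange_spec)
open Enum.Table (beq_eq blt_lt)

/-- The image of a generator. -/
def imGen (x : ℕ) : G := gw (iWords.getD x [])

theorem imGen_junk {x : ℕ} (hx : 7 ≤ x) : imGen x = 1 := by
  rw [imGen, List.getD_eq_default _ _ (by rw [ilen_check.1]; exact hx), gw_nil]

theorem itab_facts {x i : ℕ} (hx : x < 7) (hi : i < 2058) :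
    im (imGen x) i = itabF x i ∧ itabF x i < 2058 ∧ itabF x (itabF x i) = i := by
  have h := itab_check
  simp only [List.all_eq_true, List.mem_range] at h
  have h' := allRange_spec 64 0 2058 (h x hx) i (Nat.zero_le _) (by omega)
  simp only [Bool.and_eq_true] at h'
  exact ⟨(im_gw _ hi).trans (beq_eq h'.1.1), blt_lt h'.1.2, beq_eq h'.2⟩

theorem im_imGen (x : ℕ) {i : ℕ} (hi : i < 2058) : im (imGen x) i = itabF x i := by
  rcases Nat.lt_or_ge x 7 with hx | hx
  · exact (itab_facts hx hi).1
  · rw [imGen_junk hx, im_one]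
    match x, hx with
    | n + 7, _ => rfl

theorem imGen_sq (x : ℕ) : imGen x * imGen x = 1 := by
  rcases Nat.lt_or_ge x 7 with hx | hx
  · refine ext_im fun i hi => ?_
    rw [im_mul, im_imGen x hi, im_imGen x (itab_facts hx hi).2.1, (itab_facts hx hi).2.2, im_one]
  · rw [imGen_junk hx, one_mul]

theorem im_prod : ∀ (w : List ℕ) {i : ℕ}, i < 2058 →
    im (w.reverse.map imGen).prod i = appT itabF w i
  | [], i, _ => im_one i
  | x :: w, i, hi => by
    rw [List.reverse_cons, List.map_append, List.prod_append, List.map_singleton, List.prod_singleton,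
      im_mul, im_prod w (im_lt _ hi), im_imGen x hi]
    rfl

/-- The images of the named generators. -/
def imOf (a : Cfsg.Spor.He.Gen) : G := imGen (Enum.presHe.gens.idxOf a)

theorem ext_imOf (x : ℕ) : Enum.presHe.ext imOf x = imGen x := by
  have hd := Enum.presHe.nodup
  rcases Nat.lt_or_ge x Enum.presHe.gens.length with hx | hx
  · simp [Enum.Pres.ext, imOf, List.getElem?_eq_getElem hx, hd.idxOf_getElem x hx]
  · simp [Enum.Pres.ext, List.getElem?_eq_none hx, imGen_junk (show 7 ≤ x from hx)]

theorem imOf_rels : ∀ r ∈ Enum.presHe.relSet, FreeGroup.lift imOf r = 1 :=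
  (Enum.presHe.rels_iff imOf fun a => imGen_sq _).mpr fun w hw => by
    rw [List.map_congr_left fun x _ => ext_imOf x, ← List.reverse_reverse w]
    refine ext_im fun i hi => ?_
    rw [im_prod _ hi, im_one]
    have h := irels_check
    simp only [List.all_eq_true] at h
    exact beq_eq (allRange_spec 64 0 2058 (h w hw) i (Nat.zero_le _) (by omega))

/-- The endomorphism. -/
def outHom : G →* G := PresentedGroup.toGroup imOf_rels

theorem outHom_g (x : ℕ) : outHom (Enum.presHe.g x) = imGen x := by
  rcases Nat.lt_or_ge x Enum.presHe.gens.length with hx | hx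
  · rw [← ext_imOf x]
    simp [outHom, Enum.Pres.g, Enum.Pres.ext, List.getElem?_eq_getElem hx]
  · rw [Enum.presHe.g_junk x hx, map_one, imGen_junk (show 7 ≤ x from hx)]

theorem outHom_x : outHom (E 0) = E 0 ^ 3 := by
  rw [← wE_replicate]
  refine ext_im fun i hi => ?_
  rw [show outHom (E 0) = (xWord.reverse.map imGen).prod by
      rw [E, gw, map_list_prod, List.map_map]
      exact congrArg List.prod (List.map_congr_left fun x _ => outHom_g x),
    im_prod _ hi, im_wE _ hi]
  exact beq_eq (allRange_spec 64 0 2058 ix_check i (Nat.zero_le _) (by omega))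

theorem outHom_injective : Function.Injective outHom := by
  rw [← MonoidHom.ker_eq_bot_iff]
  haveI := Enum.HeM.isSimple
  refine (IsSimpleGroup.eq_bot_or_eq_top_of_normal _ inferInstance).resolve_right fun h => ?_
  have hk : outHom (E 0) = 1 := MonoidHom.mem_ker.1 (h ▸ Subgroup.mem_top (E 0))
  rw [outHom_x] at hk
  have h17 := orderOf_dvd_of_pow_eq_one hk
  rw [orderOf_x] at h17
  norm_num at h17

/-- The outer automorphism. -/
noncomputable def outAut : MulAut G :=
  MulEquiv.ofBijective outHom ⟨outHom_injective, Finite.injective_iff_surjective.1 outHom_injective⟩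

theorem outAut_outer (q : G) : outAut ≠ MulAut.conj q := by
  intro h
  have he : q * E 0 * q⁻¹ = E 0 ^ 3 := by
    rw [← MulAut.conj_apply, ← h]; exact outHom_x
  have hq : ∀ k : ℕ, q * E 0 ^ k = E 0 ^ (3 * k) * q := by
    intro k
    rw [pow_mul, ← he, conj_pow]; group
  obtain ⟨hp, -, hb, -⟩ := basicX_check
  have hpA : im q pA = pA := by
    have e1 : im (E 0 ^ 3) (im q pA) = im q pA := by
      rw [← im_mul, show E 0 ^ 3 * q = q * E 0 by rw [← he]; group, im_mul, im_pA_x]
    have e6 : ∀ n : ℕ, im ((E 0 ^ 3) ^ n) (im q pA) = im q pA := by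
      intro n
      induction n with
      | zero => rw [pow_zero, im_one]
      | succ n ih => rw [pow_succ, im_mul, e1, ih]
    have e2 := e6 6
    rw [← pow_mul, x_pow_mod, show 3 * 6 % 17 = 1 from rfl, pow_one, im_E 0 (im_lt q hp)] at e2
    have h' := allRange_spec 64 0 2058 fixX_check (im q pA) (Nat.zero_le _)
      (by have := im_lt q hp; omega)
    rw [e2] at h'
    simp only [Nat.beq_refl, Bool.not_true, Bool.or_false] at h'
    exact beq_eq h'
  have hm := cover_spec coverO_check q hb (by simpa using hp) (by simp [hpA]) (fun p hp' => by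
    obtain ⟨k, -, rfl⟩ := List.mem_map.1 hp'
    show q * wE (xw (k + 1)) = wE (xw (3 * (k + 1) % 17)) * q
    rw [xw, xw, wE_replicate, wE_replicate, ← x_pow_mod, hq])
  exact List.not_mem_nil hm

end Cfsg.Agent.HeldOut
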