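import Cfsg.Agent.Lib.HeldOut.Upper
import Cfsg.Agent.Lib.HeldOut.Lower
import Cfsg.Prelude.Def_KGroupFacts

/-! The outer automorphism group of the Held group has order two. -/

set_option autoImplicit false
set_option maxRecDepth 10000

namespace Cfsg.Agent.HeldOut

theorem card_out : Nat.card (Cfsg.Out G) = 2 := by
  obtain ⟨hfin, hle⟩ := card_mulAut_le
  haveI := Enum.HeM.isSimple
  have hZ : Subgroup.center G = ⊥ := by
    refine (IsSimpleGroup.eq_bot_or_eq_top_of_normal _ inferInstance).resolve_right fun h => ?_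
    have hc : E 2 * E 0 = E 0 * E 2 :=
      (Subgroup.mem_center_iff.1 (h ▸ Subgroup.mem_top (E 0) : E 0 ∈ Subgroup.center G) (E 2))
    rw [y_mul_x, pow_two, mul_assoc] at hc
    have hc' : E 0 * E 2 = 1 * E 2 := by rw [one_mul]; exact mul_left_cancel hc
    exact x_ne_one (mul_right_cancel hc')
  have hker : (MulAut.conj : G →* MulAut G).ker = ⊥ := by
    rw [eq_bot_iff, ← hZ]
    intro q hq
    rw [MonoidHom.mem_ker] at hq
    refine Subgroup.mem_center_iff.2 fun p => ?_
    have := DFunLike.congr_fun hq p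
    simp only [MulAut.conj_apply, MulAut.one_apply] at this
    exact (mul_inv_eq_iff_eq_mul.1 this).symm
  have hcard : Nat.card (Cfsg.Inn G) = 4030387200 := by
    show Nat.card (MulAut.conj : G →* MulAut G).range = _
    rw [← Nat.card_congr (MonoidHom.ofInjective ((MonoidHom.ker_eq_bot_iff _).1 hker)).toEquiv,
      card_G]
  have hne : (Cfsg.Inn G) ≠ ⊤ := fun h => by
    have : outAut ∈ Cfsg.Inn G := h ▸ Subgroup.mem_top _
    obtain ⟨q, hq⟩ := this
    exact outAut_outer q hq.symm
  have h2 := Subgroup.one_lt_index_of_ne_top hne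
  have hmul := Subgroup.card_mul_index (Cfsg.Inn G)
  rw [hcard] at hmul
  show (Cfsg.Inn G).index = 2
  omega

end Cfsg.Agent.HeldOut
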