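import Cfsg.Agent.Lib.HeldOut.Fix

/-! The automorphism group of He has order at most twice that of the group. -/

set_option autoImplicit false
set_option maxRecDepth 10000

namespace Cfsg.Agent.HeldOut

theorem pow_conj (e : ℕ) (he : e % 17 ≠ 0) :
    ∃ g, E 0 ^ e = g * E 0 * g⁻¹ ∨ E 0 ^ e = g * E 0 ^ 3 * g⁻¹ := by
  have hm : ∀ m : ℕ, E 2 ^ m * E 0 * (E 2 ^ m)⁻¹ = E 0 ^ (2 ^ m) := by
    intro m
    induction m with
    | zero => simp
    | succ m ih =>
      have h1 : E 2 * E 0 * (E 2)⁻¹ = E 0 ^ 2 := mul_inv_eq_of_eq_mul y_mul_x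
      calc E 2 ^ (m + 1) * E 0 * (E 2 ^ (m + 1))⁻¹
          = E 2 * (E 2 ^ m * E 0 * (E 2 ^ m)⁻¹) * (E 2)⁻¹ := by rw [pow_succ']; group
        _ = (E 2 * E 0 * (E 2)⁻¹) ^ (2 ^ m) := by rw [ih, conj_pow]
        _ = _ := by rw [h1, ← pow_mul, ← pow_succ']
  have key : ∀ r < 17, r ≠ 0 → ∃ m < 8, 2 ^ m % 17 = r ∨ 2 ^ m * 3 % 17 = r := by decide +kernel
  obtain ⟨m, -, h⟩ := key (e % 17) (Nat.mod_lt _ (by norm_num)) he
  refine ⟨E 2 ^ m, ?_⟩
  rcases h with h | h
  · exact Or.inl (by rw [hm, x_pow_mod (2 ^ m), h, ← x_pow_mod])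
  · exact Or.inr (by rw [← conj_pow, hm, ← pow_mul, x_pow_mod (2 ^ m * 3), h, ← x_pow_mod])

/-- Conjugates of `x` and of its cube, by cosets. -/
noncomputable def ordList (p : (G ⧸ Subgroup.zpowers (E 0)) × Bool) : G :=
  p.1.out * (bif p.2 then E 0 else E 0 ^ 3) * p.1.out⁻¹

theorem ordList_surj {z : G} (hz : orderOf z = 17) : ∃ p, ordList p = z := by
  haveI : Fact (Nat.Prime 17) := ⟨by norm_num⟩
  have hfac : (Nat.card G).factorization 17 = 1 := by
    rw [card_G, show (4030387200 : ℕ) = 17 ^ 1 * 237081600 by norm_num,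
      Nat.factorization_mul (by norm_num) (by norm_num), Finsupp.add_apply,
      Nat.Prime.factorization_pow (Fact.out : Nat.Prime 17), Finsupp.single_eq_same,
      Nat.factorization_eq_zero_of_not_dvd (by norm_num)]
  let P : Sylow 17 G := Sylow.ofCard (Subgroup.zpowers (E 0))
    (by rw [Nat.card_zpowers, orderOf_x, hfac, pow_one])
  let Q : Sylow 17 G := Sylow.ofCard (Subgroup.zpowers z)
    (by rw [Nat.card_zpowers, hz, hfac, pow_one])
  obtain ⟨w, hw⟩ := MulAction.exists_smul_eq G P Q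
  have hz' : w⁻¹ * z * w ∈ Subgroup.zpowers (E 0) := by
    have h0 : z ∈ (Q : Subgroup G) := Subgroup.mem_zpowers z
    rw [← hw, Sylow.coe_subgroup_smul, Subgroup.mem_pointwise_smul_iff_inv_smul_mem] at h0
    simpa [MulAut.smul_def, ← map_inv, MulAut.conj_apply, mul_assoc, P] using h0
  obtain ⟨e, he⟩ := (Submonoid.mem_powers_iff _ _).1 (mem_powers_iff_mem_zpowers.2 hz')
  have he' : E 0 ^ e = w⁻¹ * z * w := he
  have hne : e % 17 ≠ 0 := by
    intro h0
    have h1 : E 0 ^ e = 1 := by rw [x_pow_mod, h0, pow_zero]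
    have : z = 1 := by
      calc z = w * (w⁻¹ * z * w) * w⁻¹ := by group
        _ = 1 := by rw [← he', h1]; group
    rw [this, orderOf_one] at hz
    norm_num at hz
  have key : ∀ (g v : G), (v = E 0 ∨ v = E 0 ^ 3) → z = g * v * g⁻¹ → ∃ p, ordList p = z := by
    intro g v hv e
    let c : G ⧸ Subgroup.zpowers (E 0) := QuotientGroup.mk g
    obtain ⟨n, hn⟩ := QuotientGroup.mk_out_eq_mul (Subgroup.zpowers (E 0)) g
    obtain ⟨i, hi⟩ := Subgroup.mem_zpowers_iff.1 n.2
    have hcomm : ∀ u : G, (u = E 0 ∨ u = E 0 ^ 3) → c.out * u * c.out⁻¹ = g * u * g⁻¹ := by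
      intro u hu
      show Quotient.out (QuotientGroup.mk g : G ⧸ Subgroup.zpowers (E 0)) * u * _⁻¹ = _
      rw [hn, ← hi]
      rcases hu with rfl | rfl <;> group
    rcases hv with rfl | rfl
    · exact ⟨(c, true), (hcomm _ (Or.inl rfl)).trans e.symm⟩
    · exact ⟨(c, false), (hcomm _ (Or.inr rfl)).trans e.symm⟩
  obtain ⟨g, h | h⟩ := pow_conj e hne
  · refine key (w * g) (E 0) (Or.inl rfl) ?_
    calc z = w * (w⁻¹ * z * w) * w⁻¹ := by group
      _ = _ := by rw [← he', h]; group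
  · refine key (w * g) (E 0 ^ 3) (Or.inr rfl) ?_
    calc z = w * (w⁻¹ * z * w) * w⁻¹ := by group
      _ = _ := by rw [← he', h]; group

/-- The automorphism group has order at most twice that of the group. -/
theorem card_mulAut_le : Finite (MulAut G) ∧ Nat.card (MulAut G) ≤ 8060774400 := by
  classical
  let I := (G ⧸ Subgroup.zpowers (E 0)) × Bool
  have hsel : ∀ α : MulAut G, ∃ p : I, ordList p = α (E 0) := fun α =>
    ordList_surj (by rw [MulEquiv.orderOf_eq, orderOf_x])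
  choose sel hsel using hsel
  let rp : I → MulAut G := fun p => if h : ∃ α, sel α = p then h.choose else 1
  have hrp : ∀ α, sel (rp (sel α)) = sel α := fun α => by
    have h : ∃ β, sel β = sel α := ⟨α, rfl⟩
    simp only [rp, dif_pos h]
    exact h.choose_spec
  have hsame : ∀ α, ∃ m : Fin 17, (rp (sel α))⁻¹ * α = MulAut.conj (E 0 ^ m.1) := by
    intro α
    have e : rp (sel α) (E 0) = α (E 0) := by rw [← hsel, hrp, hsel]
    obtain ⟨m, hm, h⟩ := fix_x (α := (rp (sel α))⁻¹ * α) (by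
      rw [MulAut.mul_apply, ← e, MulAut.inv_apply_self])
    exact ⟨⟨m, hm⟩, h⟩
  choose m hm using hsame
  let f : MulAut G → I × Fin 17 := fun α => (sel α, m α)
  have hf : Function.Injective f := by
    intro α β h
    simp only [f, Prod.mk.injEq] at h
    calc α = rp (sel α) * ((rp (sel α))⁻¹ * α) := by group
      _ = rp (sel β) * ((rp (sel β))⁻¹ * β) := by rw [hm α, hm β, h.1, h.2]
      _ = β := by group
  refine ⟨Finite.of_injective f hf, (Nat.card_le_card_of_injective f hf).trans (le_of_eq ?_)⟩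
  have h := Subgroup.card_eq_card_quotient_mul_card_subgroup (Subgroup.zpowers (E 0))
  rw [Nat.card_zpowers, orderOf_x, card_G] at h
  rw [Nat.card_prod, Nat.card_prod, Nat.card_fin, Nat.card_eq_fintype_card (α := Bool),
    Fintype.card_bool]
  omega

end Cfsg.Agent.HeldOut
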